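import Cfsg.Agent.H284.EP.Hat
import Cfsg.Agent.H419.EP.AllModels
import Cfsg.Agent.H907.MxJ
import Cfsg.Agent.H918.UProper
import Cfsg.Agent.S0280

/-!
# S3499, SU-C3, `n = r = 3` (helper950)
-/

set_option autoImplicit false
set_option linter.unusedSectionVars false

namespace Cfsg.Agent.H950.EPU

open Subgroup Cfsg Cfsg.Geo Cfsg.Agent.H284 Cfsg.Agent.H419.EP Cfsg.Agent.H907 Cfsg.Agent.H918 Matrix
open scoped MatrixGroups

section arith

/-- the order of an element of the torus whose cube is scalar -/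
theorem order_dvd {q o : ℕ} (hq : 2 ≤ q) (h1 : o ∣ q ^ 2 - q + 1) (h2 : o ∣ 3 * (q ^ 2 - 1)) : o ∣ q ^ 2 - 1 := by
  obtain ⟨t, rfl⟩ : ∃ t, q = t + 2 := ⟨q - 2, by omega⟩
  have e1 : (t + 2) ^ 2 - (t + 2) + 1 = t * (t + 3) + 3 := by
    have : (t + 2) ^ 2 = t * (t + 3) + 2 + (t + 2) := by ring
    omega
  have e2 : (t + 2) ^ 2 - 1 = (t + 1) * (t + 3) := by
    have : (t + 2) ^ 2 = (t + 1) * (t + 3) + 1 := by ring
    omega
  rw [e1] at h1
  rw [e2] at h2 ⊢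
  -- `o ∣ 9`
  have h3 : o ∣ 3 * t := by
    have e3 : 3 * ((t + 1) * (t + 3)) = 3 * (t * (t + 3) + 3) + 3 * t := by ring
    rw [e3] at h2
    exact (Nat.dvd_add_right (h1.mul_left 3)).1 h2
  have h4 : o ∣ 9 := by
    have e4 : 3 * (t * (t + 3) + 3) = 3 * t * (t + 3) + 9 := by ring
    have h5 := h1.mul_left 3
    rw [e4] at h5
    exact (Nat.dvd_add_right (h3.mul_right (t + 3))).1 h5
  have h9 : ¬ 9 ∣ t * (t + 3) + 3 := by
    intro h
    have h5 : (t * (t + 3) + 3) % 9 = 0 := Nat.mod_eq_zero_of_dvd h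
    have h6 : (t * (t + 3) + 3) % 9 = ((t % 9) * (t % 9 + 3) + 3) % 9 := by
      simp [Nat.add_mod, Nat.mul_mod]
    rw [h6] at h5
    have h7 : t % 9 < 9 := Nat.mod_lt _ (by norm_num)
    interval_cases (t % 9) <;> omega
  have ho : o = 1 ∨ o = 3 ∨ o = 9 := by
    have h5 : o ≤ 9 := Nat.le_of_dvd (by norm_num) h4
    interval_cases o <;> revert h4 <;> decide
  rcases ho with rfl | rfl | rfl
  · exact one_dvd _
  · -- `3 ∣ t * (t + 3) + 3`
    have h5 : 3 ∣ t * (t + 3) := (Nat.dvd_add_left (dvd_refl 3)).1 h1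
    rcases (Nat.Prime.dvd_mul Nat.prime_three).1 h5 with h6 | h6
    · exact Dvd.dvd.mul_left (h6.add (dvd_refl 3)) _
    · exact Dvd.dvd.mul_left h6 _
  · exact absurd h1 h9

theorem num_three {q N : ℕ} (hq : 3 ≤ q) (hN : N = q ^ 2 - q + 1) {d : ℕ} (hd : d = Nat.gcd 3 (q + 1))
    (h : q ^ 3 * ((q ^ 3 + 1) * (q ^ 2 - 1)) ≤ d * (12 * N ^ 3)) : False := by
  obtain ⟨a, ha⟩ : ∃ a, q ^ 2 = q + a := ⟨q ^ 2 - q, by
    have : q ≤ q ^ 2 := by nlinarith
    omega⟩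
  have hN' : N = a + 1 := by rw [hN, ha]; omega
  have hcube : q ^ 3 + 1 = (q + 1) * N := by
    rw [hN']
    have : q * q ^ 2 = q * (q + a) := by rw [ha]
    nlinarith
  have hNpos : 0 < N := by omega
  have h1 : q ^ 3 * ((q + 1) * (q ^ 2 - 1)) ≤ d * (12 * N ^ 2) := by
    rw [hcube] at h
    have e1 : q ^ 3 * ((q + 1) * N * (q ^ 2 - 1)) = q ^ 3 * ((q + 1) * (q ^ 2 - 1)) * N := by ring
    have e2 : d * (12 * N ^ 3) = d * (12 * N ^ 2) * N := by ring
    rw [e1, e2] at h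
    exact Nat.le_of_mul_le_mul_right h hNpos
  have hd3 : d ≤ 3 := by rw [hd]; exact Nat.gcd_le_left _ (by norm_num)
  have hNq : N ≤ q ^ 2 := by rw [hN', ha]; omega
  by_cases h7 : 7 ≤ q
  · have h2 : q ^ 3 ≤ (q + 1) * (q ^ 2 - 1) := by
      obtain ⟨b, hb⟩ : ∃ b, q ^ 2 = b + 1 := ⟨q ^ 2 - 1, by
        have : 1 ≤ q ^ 2 := Nat.one_le_pow _ _ (by omega)
        omega⟩
      have e3 : q ^ 3 = q * (b + 1) := by rw [← hb]; ring
      rw [e3, hb, Nat.add_sub_cancel]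
      have : q ≤ b := by nlinarith
      nlinarith
    have h3 : q ^ 3 * q ^ 3 ≤ 36 * (q ^ 2) ^ 2 := by
      calc q ^ 3 * q ^ 3 ≤ q ^ 3 * ((q + 1) * (q ^ 2 - 1)) := Nat.mul_le_mul_left _ h2
        _ ≤ d * (12 * N ^ 2) := h1
        _ ≤ 3 * (12 * (q ^ 2) ^ 2) := Nat.mul_le_mul hd3 (Nat.mul_le_mul_left _ (Nat.pow_le_pow_left hNq 2))
        _ = 36 * (q ^ 2) ^ 2 := by ring
    have h4 : q ^ 3 * q ^ 3 = q ^ 2 * (q ^ 2) ^ 2 := by ring
    rw [h4] at h3
    have h5 : q ^ 2 ≤ 36 := Nat.le_of_mul_le_mul_right h3 (by positivity)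
    nlinarith
  · have : q = 3 ∨ q = 4 ∨ q = 5 ∨ q = 6 := by omega
    rcases this with rfl | rfl | rfl | rfl
    · have : N = 7 := by omega
      subst this
      have : d = 1 := by rw [hd]; decide
      subst this
      norm_num at h1
    · have : N = 13 := by omega
      subst this
      have : d = 1 := by rw [hd]; decide
      subst this
      norm_num at h1
    · have : N = 21 := by omega
      subst this
      have : d = 3 := by rw [hd]; decide
      subst this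
      norm_num at h1
    · have : N = 31 := by omega
      subst this
      have : d = 1 := by rw [hd]; decide
      subst this
      norm_num at h1

end arith

section field

variable {F : Type*} [Field F] [Fintype F] {q : ℕ} (hF : Fintype.card F = q ^ 2)
  {K : Subalgebra F (Matrix (Fin 3) (Fin 3) F)} (hK : IsFieldSubalgebra 3 K)
  (hadj : IsAdjointClosedFor (hermForm 3 F q) K)

theorem mem_scalars_of {g : GL (Fin 3) F} {c : F} (h : (g : Matrix (Fin 3) (Fin 3) F) = c • 1) :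
    g ∈ scalars (Fin 3) F := by
  rw [mem_scalars_iff]
  have hc : c ≠ 0 := by
    rintro rfl
    rw [zero_smul] at h
    exact g.ne_zero h
  exact ⟨Units.mk0 c hc, h⟩

include hF hK hadj in
/-- elements of the torus whose cube is scalar -/
theorem scalar_of_cube {k : GL (Fin 3) F} (hk : (k : Matrix (Fin 3) (Fin 3) F) ∈ K) (hkS : k ∈ SUg 3 F q)
    {c : F} (h3 : ((k ^ 3 : GL (Fin 3) F) : Matrix (Fin 3) (Fin 3) F) = c • 1) : k ∈ scalars (Fin 3) F := by
  have hq := LieClassical.HermBasic.two_le hF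
  have h1 := orderOf_dvd_of_pow_eq_one (pow_eq_one_of_mem_SU hF hK hadj hk hkS)
  have hc : c ≠ 0 := by
    rintro rfl
    rw [zero_smul] at h3
    exact (k ^ 3).ne_zero h3
  have h2 : orderOf k ∣ 3 * (q ^ 2 - 1) := by
    apply orderOf_dvd_of_pow_eq_one
    rw [pow_mul]
    apply Units.ext
    rw [Units.val_pow_eq_pow_val, h3, _root_.smul_pow, one_pow, ← hF, FiniteField.pow_card_sub_one_eq_one c hc, one_smul,
      Units.val_one]
  have h4 := orderOf_dvd_iff_pow_eq_one.1 (order_dvd hq h1 h2)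
  obtain ⟨c', hc'⟩ := Mx.scalar_of_pow hK hk (by
    have h5 : (k : Matrix (Fin 3) (Fin 3) F) ^ (q ^ 2 - 1) = 1 := by
      rw [← Units.val_pow_eq_pow_val, h4, Units.val_one]
    have h6 : 1 ≤ q ^ 2 := Nat.one_le_pow _ _ (by omega)
    rw [hF]
    calc (k : Matrix (Fin 3) (Fin 3) F) ^ (q ^ 2) = (k : Matrix (Fin 3) (Fin 3) F) ^ (q ^ 2 - 1 + 1) := by
          rw [Nat.sub_add_cancel h6]
      _ = _ := by rw [pow_succ, h5, one_mul])
  exact mem_scalars_of hc'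

include hK in
theorem mem_norm_of_conj {x k : GL (Fin 3) F} (hk : (k : Matrix (Fin 3) (Fin 3) F) ∈ K)
    (hkns : k ∉ scalars (Fin 3) F) (hxk : ((x⁻¹ * k * x : GL (Fin 3) F) : Matrix (Fin 3) (Fin 3) F) ∈ K) :
    x ∈ subalgebraNormalizer K := by
  have hns : ¬ ∃ c : F, (k : Matrix (Fin 3) (Fin 3) F) = c • (1 : Matrix (Fin 3) (Fin 3) F) := by
    rintro ⟨c, hc⟩
    exact hkns (mem_scalars_of hc)
  have hns' : ¬ ∃ c : F, ((x⁻¹ * k * x : GL (Fin 3) F) : Matrix (Fin 3) (Fin 3) F) =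
      c • (1 : Matrix (Fin 3) (Fin 3) F) := by
    rintro ⟨c, hc⟩
    apply hns
    refine ⟨c, ?_⟩
    have h1 : (k : Matrix (Fin 3) (Fin 3) F) = (x : Matrix (Fin 3) (Fin 3) F) *
        ((x⁻¹ * k * x : GL (Fin 3) F) : Matrix (Fin 3) (Fin 3) F) * ((x⁻¹ : GL (Fin 3) F) : Matrix (Fin 3) (Fin 3) F) := by
      rw [← Units.val_mul, ← Units.val_mul]
      congr 1
      group
    rw [h1, hc, mul_smul_comm, mul_one, smul_mul_assoc, ← Units.val_mul, mul_inv_cancel, Units.val_one]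
  have xx : (x : Matrix (Fin 3) (Fin 3) F) * ((x⁻¹ : GL (Fin 3) F) : Matrix (Fin 3) (Fin 3) F) = 1 := by
    rw [← Units.val_mul, mul_inv_cancel, Units.val_one]
  have xx' : ((x⁻¹ : GL (Fin 3) F) : Matrix (Fin 3) (Fin 3) F) * (x : Matrix (Fin 3) (Fin 3) F) = 1 := by
    rw [← Units.val_mul, inv_mul_cancel, Units.val_one]
  -- `x⁻¹ K x ≤ K` and `x K x⁻¹ ≤ K`
  have k1 : ∀ y ∈ K, ((x⁻¹ : GL (Fin 3) F) : Matrix (Fin 3) (Fin 3) F) * y * (x : Matrix (Fin 3) (Fin 3) F) ∈ K := by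
    intro y hy
    refine SU3.mem_of_comm hK hxk hns' ?_
    have h1 := hK.comm y hy _ hk
    rw [Units.val_mul, Units.val_mul]
    calc ((x⁻¹ : GL (Fin 3) F) : Matrix (Fin 3) (Fin 3) F) * y * (x : Matrix (Fin 3) (Fin 3) F) *
          (((x⁻¹ : GL (Fin 3) F) : Matrix (Fin 3) (Fin 3) F) * (k : Matrix (Fin 3) (Fin 3) F) * (x : Matrix (Fin 3) (Fin 3) F))
        = ((x⁻¹ : GL (Fin 3) F) : Matrix (Fin 3) (Fin 3) F) * y * ((x : Matrix (Fin 3) (Fin 3) F) *
          ((x⁻¹ : GL (Fin 3) F) : Matrix (Fin 3) (Fin 3) F)) * (k : Matrix (Fin 3) (Fin 3) F) *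
          (x : Matrix (Fin 3) (Fin 3) F) := by simp only [mul_assoc]
      _ = ((x⁻¹ : GL (Fin 3) F) : Matrix (Fin 3) (Fin 3) F) * (y * (k : Matrix (Fin 3) (Fin 3) F)) *
          (x : Matrix (Fin 3) (Fin 3) F) := by rw [xx, mul_one]; simp only [mul_assoc]
      _ = ((x⁻¹ : GL (Fin 3) F) : Matrix (Fin 3) (Fin 3) F) * (k : Matrix (Fin 3) (Fin 3) F) * ((x : Matrix (Fin 3) (Fin 3) F) *
          ((x⁻¹ : GL (Fin 3) F) : Matrix (Fin 3) (Fin 3) F)) * y *
          (x : Matrix (Fin 3) (Fin 3) F) := by rw [xx, mul_one, h1]; simp only [mul_assoc]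
      _ = _ := by simp only [mul_assoc]
  have k2 : ∀ y ∈ K, (x : Matrix (Fin 3) (Fin 3) F) * y * ((x⁻¹ : GL (Fin 3) F) : Matrix (Fin 3) (Fin 3) F) ∈ K := by
    intro y hy
    refine SU3.mem_of_comm hK hk hns ?_
    have h1 := hK.comm y hy _ hxk
    rw [Units.val_mul, Units.val_mul] at h1
    have h2 : (k : Matrix (Fin 3) (Fin 3) F) = (x : Matrix (Fin 3) (Fin 3) F) *
        (((x⁻¹ : GL (Fin 3) F) : Matrix (Fin 3) (Fin 3) F) * (k : Matrix (Fin 3) (Fin 3) F) * (x : Matrix (Fin 3) (Fin 3) F)) *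
        ((x⁻¹ : GL (Fin 3) F) : Matrix (Fin 3) (Fin 3) F) := by
      simp only [mul_assoc]
      rw [xx, mul_one, ← mul_assoc, xx, one_mul]
    calc (x : Matrix (Fin 3) (Fin 3) F) * y * ((x⁻¹ : GL (Fin 3) F) : Matrix (Fin 3) (Fin 3) F) *
          (k : Matrix (Fin 3) (Fin 3) F)
        = (x : Matrix (Fin 3) (Fin 3) F) * (y * (((x⁻¹ : GL (Fin 3) F) : Matrix (Fin 3) (Fin 3) F) *
          (k : Matrix (Fin 3) (Fin 3) F) * (x : Matrix (Fin 3) (Fin 3) F))) *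
          ((x⁻¹ : GL (Fin 3) F) : Matrix (Fin 3) (Fin 3) F) := by
          simp only [mul_assoc]
          rw [xx, mul_one]
      _ = _ := by
          rw [h1]
          simp only [mul_assoc]
          rw [← mul_assoc (x : Matrix (Fin 3) (Fin 3) F) ((x⁻¹ : GL (Fin 3) F) : Matrix (Fin 3) (Fin 3) F), xx, one_mul]
  intro y
  refine ⟨k2 y, fun hy => ?_⟩
  have h1 := k1 _ hy
  have h2 : ((x⁻¹ : GL (Fin 3) F) : Matrix (Fin 3) (Fin 3) F) * ((x : Matrix (Fin 3) (Fin 3) F) * y *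
      ((x⁻¹ : GL (Fin 3) F) : Matrix (Fin 3) (Fin 3) F)) * (x : Matrix (Fin 3) (Fin 3) F) = y := by
    simp only [mul_assoc]
    rw [xx', mul_one, ← mul_assoc, xx', one_mul]
  rwa [h2] at h1

end field

section main

variable {F : Type*} [Field F] [Fintype F] {q : ℕ} (hF : Fintype.card F = q ^ 2)
  {K : Subalgebra F (Matrix (Fin 3) (Fin 3) F)} (hK : IsFieldSubalgebra 3 K)
  (hadj : IsAdjointClosedFor (hermForm 3 F q) K)

include hF hK hadj in
/-- the torus -/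
theorem ncard_torus : {g : GL (Fin 3) F | (g : Matrix (Fin 3) (Fin 3) F) ∈ K ∧ g ∈ SUg 3 F q}.ncard ≤
    q ^ 2 - q + 1 := by
  classical
  have := isCyclic_KU hK
  have hfin : Finite (KU hK) := inferInstance
  have _ : Fintype (KU hK) := Fintype.ofFinite _
  have h1 : {g : GL (Fin 3) F | (g : Matrix (Fin 3) (Fin 3) F) ∈ K ∧ g ∈ SUg 3 F q} ⊆
      (Subtype.val '' {z : KU hK | z ^ (q ^ 2 - q + 1) = 1}) := by
    rintro g ⟨hg, hgS⟩
    exact ⟨⟨g, hg⟩, Subtype.ext (pow_eq_one_of_mem_SU hF hK hadj hg hgS), rfl⟩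
  refine (Set.ncard_le_ncard h1 (Set.toFinite _)).trans ((Set.ncard_image_le (Set.toFinite _)).trans ?_)
  have h2 := IsCyclic.card_pow_eq_one_le (α := KU hK) (n := q ^ 2 - q + 1) (by omega)
  have h3 : {z : KU hK | z ^ (q ^ 2 - q + 1) = 1}.ncard =
      (Finset.univ.filter fun z : KU hK => z ^ (q ^ 2 - q + 1) = 1).card := by
    rw [← Set.ncard_coe_finset]
    congr 1
    ext z
    simp
  rw [h3]
  exact h2

/-- **row SU-C3, `n = r = 3`** -/
theorem su_c3_three {Q : Type*} [Group Q] [Finite Q] {A : Subgroup Q} {Γ : Subgroup (MulAut Q)} (h : EPT A Γ)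
    {F : Type*} [Field F] [Fintype F] {q : ℕ} (hF : Fintype.card F = q ^ 2) (hq : q ≠ 2)
    (m : Model Q (Cfsg.GU 3 F q ⊓ Cfsg.Geo.specialLinear (Fin 3) F))
    {K : Subalgebra F (Matrix (Fin 3) (Fin 3) F)} (hK : IsFieldSubalgebra 3 K)
    (hadj : IsAdjointClosedFor (hermForm 3 F q) K) (hle : m.hat A ≤ subalgebraNormalizer K) : False := by
  classical
  have hq2 := LieClassical.HermBasic.two_le hF
  obtain ⟨N, hN⟩ : ∃ N, N = q ^ 2 - q + 1 := ⟨_, rfl⟩
  -- maximality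
  have hmax := m.isMaximalIn h.max
  have hA : m.hat A = subalgebraNormalizer K ⊓ SUg 3 F q := by
    rcases hmax.2 (subalgebraNormalizer K ⊓ SUg 3 F q) (le_inf hle (m.hat_le A)) inf_le_right with h1 | h1
    · exact h1.symm
    · exact absurd (inf_eq_right.1 h1)
        (SUg_not_le_subalgebraNormalizer hF le_rfl (fun h2 => hq h2.2) (by norm_num) hK)
  -- elements of `K` in two point stabilisers are scalars
  have key : ∀ x ∈ SUg 3 F q, x ∉ m.hat A → ∀ k ∈ m.hat A ⊓ cj x (m.hat A), (k : Matrix (Fin 3) (Fin 3) F) ∈ K →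
      k ∈ scalars (Fin 3) F := by
    intro x hxS hx k hk hkK
    have hxk : x⁻¹ * k * x ∈ m.hat A := mem_cj.1 hk.2
    by_cases h3 : k ^ 3 ∈ scalars (Fin 3) F
    · obtain ⟨c, hc⟩ := (mem_scalars_iff _).1 h3
      exact scalar_of_cube hF hK hadj hkK (m.hat_le A hk.1) hc
    · exfalso
      apply hx
      rw [hA]
      refine ⟨mem_norm_of_conj hK (k := k ^ 3) ?_ h3 ?_, hxS⟩
      · rw [Units.val_pow_eq_pow_val]
        exact K.pow_mem hkK 3
      · have h4 := Mx.cube_mem hK (hle hxk)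
        have h5 : (x⁻¹ * k * x) ^ 3 = x⁻¹ * k ^ 3 * x := by simp only [pow_succ, pow_zero, one_mul, mul_assoc, mul_inv_cancel_left]
        rwa [h5] at h4
  have scal : ∀ x ∈ SUg 3 F q, ∀ z ∈ scalars (Fin 3) F, z ∈ SUg 3 F q → z ∈ m.hat A ⊓ cj x (m.hat A) := by
    intro x _ z hz hzS
    have h1 : z ∈ m.hat A := m.scal_le A ⟨hz, hzS⟩
    refine ⟨h1, mem_cj.2 ?_⟩
    obtain ⟨c, hc⟩ := (mem_scalars_iff _).1 hz
    have h2 : x⁻¹ * z * x = z := by
      apply Units.ext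
      rw [Units.val_mul, Units.val_mul, hc, mul_smul_comm, mul_one, smul_mul_assoc, ← Units.val_mul, inv_mul_cancel,
        Units.val_one]
    rw [h2]
    exact h1
  -- the elements outside `K`
  obtain ⟨T, hT⟩ : ∃ T : Set (GL (Fin 3) F), T = {g : GL (Fin 3) F | g ∈ m.hat A ∧ (g : Matrix (Fin 3) (Fin 3) F) ∉ K} := ⟨_, rfl⟩
  have hC := ncard_torus hF hK hadj
  obtain ⟨C, hCdef⟩ : ∃ C : Set (GL (Fin 3) F), C = {g : GL (Fin 3) F | (g : Matrix (Fin 3) (Fin 3) F) ∈ K ∧ g ∈ SUg 3 F q} :=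
    ⟨_, rfl⟩
  rw [← hCdef, ← hN] at hC
  have hTc : T.ncard ≤ 2 * N := by
    rcases T.eq_empty_or_nonempty with h0 | ⟨y, hy⟩
    · rw [h0, Set.ncard_empty]; exact Nat.zero_le _
    · rw [hT] at hy
      have hsub : T ⊆ ((fun g => g * y) '' C) ∪ ((fun g => g * y⁻¹) '' C) := by
        intro g hg
        rw [hT] at hg
        have hgS := m.hat_le A hg.1
        have hyS := m.hat_le A hy.1
        rcases Mx.pair_mem hK (hle hg.1) (hle hy.1) with h1 | h1 | h1 | h1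
        · exact absurd h1 hg.2
        · exact absurd h1 hy.2
        · right
          refine ⟨g * y, ?_, by simp⟩
          rw [hCdef]
          exact ⟨h1, mul_mem hgS hyS⟩
        · left
          refine ⟨g * y⁻¹, ?_, by simp⟩
          rw [hCdef]
          exact ⟨h1, mul_mem hgS (inv_mem hyS)⟩
      refine (Set.ncard_le_ncard hsub (Set.toFinite _)).trans ((Set.ncard_union_le _ _).trans ?_)
      have e1 := Set.ncard_image_le (f := fun g : GL (Fin 3) F => g * y) (Set.toFinite C)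
      have e2 := Set.ncard_image_le (f := fun g : GL (Fin 3) F => g * y⁻¹) (Set.toFinite C)
      omega
  have hAc : Nat.card (m.hat A) ≤ 3 * N := by
    have hsub : ((m.hat A : Subgroup (GL (Fin 3) F)) : Set (GL (Fin 3) F)) ⊆ C ∪ T := by
      intro g hg
      by_cases h1 : (g : Matrix (Fin 3) (Fin 3) F) ∈ K
      · left
        rw [hCdef]
        exact ⟨h1, m.hat_le A hg⟩
      · right
        rw [hT]
        exact ⟨hg, h1⟩
    have e1 : Nat.card (m.hat A) = ((m.hat A : Subgroup (GL (Fin 3) F)) : Set (GL (Fin 3) F)).ncard := rfl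
    rw [e1]
    refine (Set.ncard_le_ncard hsub (Set.toFinite _)).trans ((Set.ncard_union_le _ _).trans ?_)
    omega
  -- the two point stabilisers
  have hchoose : ∀ M ∈ Hat.hatSet (Cfsg.GU 3 F q ⊓ Cfsg.Geo.specialLinear (Fin 3) F) (m.hat A) ⊥,
      ∃ y ∈ M, y ∈ T := by
    rintro M ⟨⟨x, hxS, hx, rfl⟩, -⟩
    obtain ⟨y, hy, hyn⟩ := exists_nonscalar h m hxS hx
    refine ⟨y, hy, ?_⟩
    rw [hT]
    exact ⟨hy.1, fun h1 => hyn (key x hxS hx y hy h1)⟩
  choose! f hf1 hf2 using hchoose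
  have hHc : (Hat.hatSet (Cfsg.GU 3 F q ⊓ Cfsg.Geo.specialLinear (Fin 3) F) (m.hat A) ⊥).ncard ≤ 2 * N := by
    refine le_trans ?_ hTc
    refine Set.ncard_le_ncard_of_injOn f hf2 ?_ (Set.toFinite _)
    -- `M` is determined by `f M`
    have one : ∀ x ∈ SUg 3 F q, x ∉ m.hat A → ∀ x' ∈ SUg 3 F q, ∀ y : GL (Fin 3) F,
        (y : Matrix (Fin 3) (Fin 3) F) ∉ K → y ∈ m.hat A ⊓ cj x (m.hat A) → y ∈ m.hat A ⊓ cj x' (m.hat A) →
        m.hat A ⊓ cj x (m.hat A) ≤ m.hat A ⊓ cj x' (m.hat A) := by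
      intro x hxS hx x' hxS' y hyK hy hy' g hg
      have hgS := m.hat_le A hg.1
      have hyS := m.hat_le A hy.1
      rcases Mx.pair_mem hK (hle hg.1) (hle hy.1) with h1 | h1 | h1 | h1
      · exact scal x' hxS' g (key x hxS hx g hg h1) hgS
      · exact absurd h1 hyK
      · have h2 := scal x' hxS' _ (key x hxS hx _ (mul_mem hg hy) h1) (mul_mem hgS hyS)
        have h3 := mul_mem h2 (inv_mem hy')
        rwa [mul_inv_cancel_right] at h3
      · have h2 := scal x' hxS' _ (key x hxS hx _ (mul_mem hg (inv_mem hy)) h1) (mul_mem hgS (inv_mem hyS))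
        have h3 := mul_mem h2 hy'
        rwa [inv_mul_cancel_right] at h3
    intro M hM M' hM' hff
    have a1 := hf1 M hM
    have a2 := hf1 M' hM'
    have a3 := hf2 M hM
    rw [← hff] at a2
    rw [hT] at a3
    obtain ⟨⟨x, hxS, hx, rfl⟩, -⟩ := hM
    obtain ⟨⟨x', hxS', hx', rfl⟩, -⟩ := hM'
    exact le_antisymm (one x hxS hx x' hxS' _ a3.2 a1 a2) (one x' hxS' hx' x hxS _ a3.2 a2 a1)
  have hidx := Hat.index_le m h
  -- the order of `S`
  obtain ⟨m'⟩ := Cfsg.Agent.H117.EP.model_PSU (n := 3) hF le_rfl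
  have hcS : Nat.card (Cfsg.PSU 3 F q) ≤ Nat.card (Cfsg.GU 3 F q ⊓ Cfsg.Geo.specialLinear (Fin 3) F :
      Subgroup (GL (Fin 3) F)) := Nat.card_le_card_of_surjective _ m'.surj
  have hprod : (m.hat A).relIndex (Cfsg.GU 3 F q ⊓ Cfsg.Geo.specialLinear (Fin 3) F) * Nat.card (m.hat A) =
      Nat.card (Cfsg.GU 3 F q ⊓ Cfsg.Geo.specialLinear (Fin 3) F : Subgroup (GL (Fin 3) F)) := by
    have e1 := Subgroup.card_mul_index ((m.hat A).subgroupOf (Cfsg.GU 3 F q ⊓ Cfsg.Geo.specialLinear (Fin 3) F))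
    have e2 : Nat.card ((m.hat A).subgroupOf (Cfsg.GU 3 F q ⊓ Cfsg.Geo.specialLinear (Fin 3) F)) =
        Nat.card (m.hat A) := Nat.card_congr (Subgroup.subgroupOfEquivOfLe (m.hat_le A)).toEquiv
    rw [e2, mul_comm] at e1
    exact e1
  have hS : Nat.card (Cfsg.PSU 3 F q) ≤ 12 * N ^ 3 := by
    calc Nat.card (Cfsg.PSU 3 F q) ≤ _ := hcS
      _ = (m.hat A).relIndex (Cfsg.GU 3 F q ⊓ Cfsg.Geo.specialLinear (Fin 3) F) * Nat.card (m.hat A) := hprod.symm
      _ ≤ (2 * N) ^ 2 * (3 * N) := Nat.mul_le_mul (hidx.trans (Nat.pow_le_pow_left hHc 2)) hAc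
      _ = 12 * N ^ 3 := by ring
  have h280 := Cfsg.Agent.S0280.result (F := F) hF 3 (by norm_num)
  obtain ⟨P, hP⟩ : ∃ P, P = Nat.card (Cfsg.PSU 3 F q) := ⟨_, rfl⟩
  rw [← hP] at h280 hS
  simp only [Finset.prod_range_succ, Finset.prod_range_zero] at h280
  norm_num [Nat.even_iff] at h280
  obtain ⟨d, hd⟩ : ∃ d, d = Nat.gcd 3 (q + 1) := ⟨_, rfl⟩
  rw [← hd] at h280
  have hfin : q ^ 3 * ((q ^ 3 + 1) * (q ^ 2 - 1)) ≤ d * (12 * N ^ 3) := by
    have e1 : d * ((q + 1) * P) ≤ d * ((q + 1) * (12 * N ^ 3)) :=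
      Nat.mul_le_mul_left _ (Nat.mul_le_mul_left _ hS)
    rw [h280] at e1
    have e2 : d * ((q + 1) * (12 * N ^ 3)) = (q + 1) * (d * (12 * N ^ 3)) := by ring
    rw [e2] at e1
    have e3 : q ^ 3 * ((q + 1) * (q ^ 2 - 1) * (q ^ 3 + 1)) = (q + 1) * (q ^ 3 * ((q ^ 3 + 1) * (q ^ 2 - 1))) := by ring
    rw [e3] at e1
    exact Nat.le_of_mul_le_mul_left e1 (by omega)
  exact num_three (by omega) hN hd hfin

end main

end Cfsg.Agent.H950.EPU
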